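import Cfsg.Agent.AutDecomp.Parts

/-!
An automorphism acting monomially on the root elements of the fundamental roots and their negatives is the
composite of an inner, a diagonal, a graph and a field automorphism.
-/

set_option autoImplicit false

namespace Cfsg.Agent.AutDecomp

open Cfsg.Lie Cfsg.Agent.ChevCore

variable {D : ChevalleyDatum} {F : Type*} [Field F]

theorem exists_x (hD : Good D) (r : ℕ) (t : F) :
    ∃ g : ↥(D.group F), ((g : GL D.Idx F) : Matrix D.Idx D.Idx F) = D.x F r t := by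
  by_cases hr : r < D.nroots
  · refine ⟨⟨xg D F r t, Subgroup.subset_closure ⟨⟨r, hr⟩, t, ?_⟩⟩, hD.val_xg r t⟩
    rw [hD.val_xg, ChevalleyDatum.x, dif_pos hr]
  · exact ⟨1, by rw [x_out F hr]; rfl⟩

/-- Monomial action on the simple root elements gives the decomposition. -/
theorem decompose (hD : Good D) (θ : ↥(D.group F) ≃* ↥(D.group F)) (x : ↥(D.group F))
    (π : Equiv.Perm (Fin D.rank)) (hπ : D.IsDiagramSymmetry π) (a : ℕ → Fˣ) (σ : F ≃+* F)
    (h : ∀ (g : ↥(D.group F)) (i : Fin D.rank) (t : F),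
      (((g : GL D.Idx F) : Matrix D.Idx D.Idx F) = D.x F (D.simple i) t →
        ((x⁻¹ * θ g * x : ↥(D.group F)) : GL D.Idx F).val =
          D.x F (D.simple (π i)) ((a (π i).val : F) * σ t ^ D.graphExp (ringChar F) i (π i))) ∧
      (((g : GL D.Idx F) : Matrix D.Idx D.Idx F) = D.x F (D.neg (D.simple i)) t →
        ((x⁻¹ * θ g * x : ↥(D.group F)) : GL D.Idx F).val =
          D.x F (D.neg (D.simple (π i)))
            (((a (π i).val)⁻¹ : Fˣ) * σ t ^ D.graphExp (ringChar F) i (π i)))) :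
    ∃ (x : ↥(D.group F)) (d g f : ↥(D.group F) ≃* ↥(D.group F)),
      D.IsDiagonalAut d ∧ D.IsGraphAut g ∧ D.IsFieldAut f ∧ ∀ y : ↥(D.group F), θ y = x * d (g (f y)) * x⁻¹ := by
  obtain ⟨d, hd, hdx⟩ := exists_diagonal hD a (F := F)
  obtain ⟨f, hf, hfx⟩ := exists_field (D := D) σ
  let θ' : ↥(D.group F) ≃* ↥(D.group F) := θ.trans (MulAut.conj x⁻¹)
  let g : ↥(D.group F) ≃* ↥(D.group F) := f.symm.trans (θ'.trans d.symm)
  refine ⟨x, d, g, f, hd, ⟨π, hπ, fun y i t => ?_⟩, hf, fun y => ?_⟩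
  · have hext : ∀ {u v : ↥(D.group F)}, (u : GL D.Idx F).val = (v : GL D.Idx F).val → u = v :=
      fun e => Subtype.ext (Units.ext e)
    have key : ∀ (r s : ℕ) (c : Fˣ), s < D.nroots → charOf D a s = c →
        (∀ g₀ : ↥(D.group F), (g₀ : GL D.Idx F).val = D.x F r (σ.symm t) →
          ((x⁻¹ * θ g₀ * x : ↥(D.group F)) : GL D.Idx F).val =
            D.x F s ((c : F) * σ (σ.symm t) ^ D.graphExp (ringChar F) i (π i))) →
        ((y : GL D.Idx F) : Matrix D.Idx D.Idx F) = D.x F r t →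
          ((g y : GL D.Idx F) : Matrix D.Idx D.Idx F) =
            D.x F s (t ^ D.graphExp (ringChar F) i (π i)) := by
      intro r s c hs hc hθ hy
      obtain ⟨g₀, hg₀⟩ := exists_x hD r (σ.symm t)
      obtain ⟨z, hz⟩ := exists_x hD s (t ^ D.graphExp (ringChar F) i (π i))
      have e0 : f.symm y = g₀ := by
        rw [MulEquiv.symm_apply_eq]
        refine hext ?_
        rw [hy, hfx g₀ r _ hg₀, RingEquiv.apply_symm_apply]
      have e1 : g y = z := by
        show d.symm (MulAut.conj x⁻¹ (θ (f.symm y))) = z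
        rw [MulEquiv.symm_apply_eq, e0, MulAut.conj_apply, inv_inv]
        refine hext ?_
        rw [hθ g₀ hg₀, hdx z s _ hs hz, hc, RingEquiv.apply_symm_apply]
      rw [e1, hz]
    have hj := (π i).isLt
    refine ⟨key _ _ (a (π i).val) (hD.simple_lt hj) (charOf_simple hD a hj) fun g₀ => (h g₀ i _).1,
      key _ _ (a (π i).val)⁻¹ (hD.neg_lt (hD.simple_lt hj)) ?_ fun g₀ => (h g₀ i _).2⟩
    rw [(charOf_isRootCharacter hD a).1 _ (hD.simple_lt hj), charOf_simple hD a hj]
  · show θ y = x * d (d.symm (x⁻¹ * θ (f.symm (f y)) * x⁻¹⁻¹)) * x⁻¹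
    rw [d.apply_symm_apply, f.symm_apply_apply]
    group

end Cfsg.Agent.AutDecomp
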