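import Cfsg.Agent.AutDecomp.Assemble
import Cfsg.Agent.ChevAut.Types
import Cfsg.Agent.ChevAut.TypesBD

/-!
A normalised automorphism in normal form is monomial for a diagram symmetry, one field automorphism and
the exponents of a graph automorphism.
-/

set_option autoImplicit false

namespace Cfsg.Agent.AutDecomp

open Cfsg.Lie Cfsg.Agent.ChevCore Cfsg.Agent.ChevAut

variable {D : ChevalleyDatum} {F : Type*} [Field F]

/-- the exponent of a node under a symmetry jumps from short to long -/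
def jumpB (D : ChevalleyDatum) (π : Equiv.Perm (Fin D.rank)) (i : Fin D.rank) : Bool :=
  D.isLong (D.simple (π i)) && !D.isLong (D.simple i)

theorem graphExp_eq (π : Equiv.Perm (Fin D.rank)) (c : ℕ) (i : Fin D.rank) :
    D.graphExp c i (π i) = if jumpB D π i then c else 1 := rfl

/-- The goal for one permutation: symmetry, and the field automorphisms are powers of one. -/
def Tame (D : ChevalleyDatum) (F : Type*) [Field F] (π : Equiv.Perm (Fin D.rank))
    (σ : Fin D.rank → (F ≃+* F)) : Prop :=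
  D.IsDiagramSymmetry π ∧
    ∃ s : F ≃+* F, ∀ i t, σ i t = s t ^ D.graphExp (ringChar F) i (π i)

/-- A permutation preserving the Cartan integers. -/
def isoB (D : ChevalleyDatum) (π : Equiv.Perm (Fin D.rank)) : Bool :=
  (List.finRange D.rank).all fun i => !jumpB D π i &&
    (List.finRange D.rank).all fun j => decide (cA D (π i) (π j) = cA D i j)

theorem tame_iso (hD : Seven D) (hc : connB D = true) {π : Equiv.Perm (Fin D.rank)}
    (hB : isoB D π = true) {σ : Fin D.rank → (F ≃+* F)}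
    (hrel : ∀ i j (c : F), c ≠ 0 → σ j c ^ cA D i j = σ i c ^ cA D (π i) (π j)) : Tame D F π σ := by
  simp only [isoB, List.all_eq_true, Bool.and_eq_true, Bool.not_eq_true', decide_eq_true_eq] at hB
  have hA : ∀ i j, cA D (π i) (π j) = cA D i j := fun i j =>
    (hB i (List.mem_finRange i)).2 j (List.mem_finRange j)
  refine ⟨fun i j _ => congrArg₂ (· * ·) (hA i j) (hA j i), σ ⟨0, (good_of_mem hD).rank_pos⟩, fun i t => ?_⟩
  rw [graphExp_eq, (hB i (List.mem_finRange i)).1, if_neg Bool.false_ne_true, pow_one,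
    const_of_id hD hc (σ := σ) (fun i j c hc0 => by
      have h := hrel i j c hc0
      rwa [hA i j] at h) i]

/-- An additive power `2` or `3` is the power by the characteristic. -/
theorem pow_eq_char (p : ℕ) [hp : Fact p.Prime] [CharP F p] {m : ℕ} (hm : m = 2 ∨ m = 3)
    (hadd : ∀ x y : F, (x + y) ^ m = x ^ m + y ^ m) : ∀ x : F, x ^ m = x ^ p := by
  have hdvd : ∀ n : ℕ, (n : F) = 0 → p ∣ n := fun n h => (CharP.cast_eq_zero_iff F p n).1 h
  rcases hm with rfl | rfl
  · intro x
    have h2 : ((2 : ℕ) : F) = 0 := by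
      have := hadd 1 1
      push_cast
      linear_combination this
    rw [(Nat.prime_dvd_prime_iff_eq hp.out Nat.prime_two).1 (hdvd 2 h2)]
  · have h6 : ((6 : ℕ) : F) = 0 := by
      have := hadd 1 1
      push_cast
      linear_combination this
    rcases (Nat.Prime.dvd_mul hp.out).1 (show p ∣ 2 * 3 from hdvd 6 h6) with h | h
    · have e : p = 2 := (Nat.prime_dvd_prime_iff_eq hp.out Nat.prime_two).1 h
      subst e
      have h2 : (2 : F) = 0 := CharTwo.two_eq_zero
      intro x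
      have := hadd x 1
      have hx : x * (x + 1) = 0 := by linear_combination this - (x ^ 2 + x) * h2
      rcases mul_eq_zero.1 hx with h | h
      · simp [h]
      · rw [show x = 1 by linear_combination h - h2]; simp
    · intro x
      rw [(Nat.prime_dvd_prime_iff_eq hp.out Nat.prime_three).1 h]

/-- One bond of the diagram. -/
theorem bond_pow {π : Equiv.Perm (Fin D.rank)} {σ : Fin D.rank → (F ≃+* F)}
    (hrel : ∀ i j (c : F), c ≠ 0 → σ j c ^ cA D i j = σ i c ^ cA D (π i) (π j))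
    {i j : Fin D.rank} {m : ℕ} (hA : cA D i j = -1) (hA' : cA D (π i) (π j) = -(m : ℤ)) (hm : m ≠ 0)
    (c : F) : σ j c = σ i c ^ m := by
  rcases eq_or_ne c 0 with rfl | hc
  · simp [hm]
  · have := hrel i j c hc
    rwa [hA, hA', _root_.zpow_neg_one, _root_.zpow_neg, zpow_natCast, inv_inj] at this

/-- The exchange of two nodes joined by a multiple bond. -/
theorem tame_swap (hD : Seven D) (p : ℕ) [Fact p.Prime] [CharP F p] {π : Equiv.Perm (Fin D.rank)}
    {σ : Fin D.rank → (F ≃+* F)}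
    (hrel : ∀ i j (c : F), c ≠ 0 → σ j c ^ cA D i j = σ i c ^ cA D (π i) (π j))
    (hsym : ∀ i j, i ≠ j → D.bonds (π i) (π j) = D.bonds i j)
    {i j : Fin D.rank} {m : ℕ} (hm : m = 2 ∨ m = 3) (hA : cA D i j = -1)
    (hA' : cA D (π i) (π j) = -(m : ℤ))
    (hsame : ∀ k, (jumpB D π k = false → σ k = σ i) ∧ (jumpB D π k = true → σ k = σ j)) :
    Tame D F π σ := by
  have hm0 : m ≠ 0 := by omega
  have hpow := pow_eq_char p hm (fun x y => pow_additive hD hrel hA hA' hm0 x y)
  refine ⟨hsym, σ i, fun k t => ?_⟩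
  rw [graphExp_eq, ringChar.eq F p]
  cases hk : jumpB D π k
  · rw [(hsame k).1 hk, if_neg Bool.false_ne_true, pow_one]
  · rw [(hsame k).2 hk, if_pos rfl, bond_pow hrel hA hA' hm0, hpow]


theorem tame_two (p : ℕ) [Fact p.Prime] [CharP F p] (hD : Seven D) (hl : D.rank = 2) {π : Equiv.Perm (Fin D.rank)}
    {σ : Fin D.rank → (F ≃+* F)}
    (hrel : ∀ i j (c : F), c ≠ 0 → σ j c ^ cA D i j = σ i c ^ cA D (π i) (π j))
    {i j : Fin D.rank} {m : ℕ} (hm : m = 2 ∨ m = 3) (hA : cA D i j = -1)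
    (hA' : cA D (π i) (π j) = -(m : ℤ)) (hij : i ≠ j) (hi : jumpB D π i = false)
    (hj : jumpB D π j = true) (hsym : ∀ a b, a ≠ b → D.bonds (π a) (π b) = D.bonds a b) :
    Tame D F π σ := by
  refine tame_swap hD p hrel hsym hm hA hA' fun k => ?_
  have hk : k = i ∨ k = j := by
    have := k.isLt; have := i.isLt; have := j.isLt
    have : i.val ≠ j.val := fun e => hij (Fin.ext e)
    simp only [Fin.ext_iff]
    omega
  rcases hk with rfl | rfl
  · exact ⟨fun _ => rfl, fun h => absurd (hi ▸ h) Bool.false_ne_true⟩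
  · exact ⟨fun h => absurd (h ▸ hj) Bool.false_ne_true, fun _ => rfl⟩

theorem tame_G2 (p : ℕ) [Fact p.Prime] [CharP F p] {π : Equiv.Perm (Fin chevG2.rank)} {σ : Fin chevG2.rank → (F ≃+* F)}
    (hz : ∀ i j, i ≠ j → cA chevG2 i j = 0 → cA chevG2 (π i) (π j) = 0)
    (hrel : ∀ i j (c : F), c ≠ 0 → σ j c ^ cA chevG2 i j = σ i c ^ cA chevG2 (π i) (π j)) :
    Tame chevG2 F π σ := by
  rcases covG2 π hz with rfl | rfl
  · exact tame_iso (by simp) connG2 (by decide +kernel) hrel
  · obtain ⟨i, j, hA, hA', hij, hi, hj⟩ : ∃ i j, cA chevG2 i j = -1 ∧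
        cA chevG2 (swapG2 i) (swapG2 j) = -((3 : ℕ) : ℤ) ∧ i ≠ j ∧ jumpB chevG2 swapG2 i = false ∧
        jumpB chevG2 swapG2 j = true := by decide +kernel
    exact tame_two p (by simp) rfl hrel (Or.inr rfl) hA hA' hij hi hj (by decide +kernel)

theorem tame_B2 (p : ℕ) [Fact p.Prime] [CharP F p] {π : Equiv.Perm (Fin chevB2.rank)} {σ : Fin chevB2.rank → (F ≃+* F)}
    (hz : ∀ i j, i ≠ j → cA chevB2 i j = 0 → cA chevB2 (π i) (π j) = 0)
    (hrel : ∀ i j (c : F), c ≠ 0 → σ j c ^ cA chevB2 i j = σ i c ^ cA chevB2 (π i) (π j)) :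
    Tame chevB2 F π σ := by
  have := perm_cases zB2 extB2 π hz
  simp only [List.mem_cons, List.not_mem_nil, or_false] at this
  rcases this with h | h
  · obtain rfl := one_of_list π h
    exact tame_iso (by simp) connB2 (by decide +kernel) hrel
  · let s : Equiv.Perm (Fin chevB2.rank) :=
      ⟨fun i => ⟨[1, 0].getD i.val 0, by revert i; decide +kernel⟩,
       fun i => ⟨[1, 0].getD i.val 0, by revert i; decide +kernel⟩,
       by decide +kernel, by decide +kernel⟩
    obtain rfl : π = s := eq_of_list (h.trans (by decide +kernel))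
    obtain ⟨i, j, hA, hA', hij, hi, hj⟩ : ∃ i j, cA chevB2 i j = -1 ∧
        cA chevB2 (s i) (s j) = -((2 : ℕ) : ℤ) ∧ i ≠ j ∧ jumpB chevB2 s i = false ∧
        jumpB chevB2 s j = true := by decide +kernel
    exact tame_two p (by simp) rfl hrel (Or.inl rfl) hA hA' hij hi hj (by decide +kernel)

theorem tame_F4 (p : ℕ) [Fact p.Prime] [CharP F p] {π : Equiv.Perm (Fin chevF4.rank)} {σ : Fin chevF4.rank → (F ≃+* F)}
    (hz : ∀ i j, i ≠ j → cA chevF4 i j = 0 → cA chevF4 (π i) (π j) = 0)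
    (hrel : ∀ i j (c : F), c ≠ 0 → σ j c ^ cA chevF4 i j = σ i c ^ cA chevF4 (π i) (π j)) :
    Tame chevF4 F π σ := by
  rcases covF4 π hz with rfl | rfl
  · exact tame_iso (by simp) connF4 (by decide +kernel) hrel
  · let n : ℕ → Fin chevF4.rank := fun k => ⟨k % 4, Nat.mod_lt _ (by norm_num)⟩
    have e : cA chevF4 (n 2) (n 3) = -1 ∧ cA chevF4 (revF4 (n 2)) (revF4 (n 3)) = -((1 : ℕ) : ℤ) ∧
        cA chevF4 (n 0) (n 1) = -1 ∧ cA chevF4 (revF4 (n 0)) (revF4 (n 1)) = -((1 : ℕ) : ℤ) ∧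
        cA chevF4 (n 2) (n 1) = -1 ∧ cA chevF4 (revF4 (n 2)) (revF4 (n 1)) = -((2 : ℕ) : ℤ) ∧
        (∀ k, jumpB chevF4 revF4 k = false → k = n 2 ∨ k = n 3) ∧
        (∀ k, jumpB chevF4 revF4 k = true → k = n 0 ∨ k = n 1) := by
      decide +kernel
    obtain ⟨a1, a2, b1, b2, c1, c2, hf, ht⟩ := e
    have h32 : σ (n 3) = σ (n 2) := RingEquiv.ext fun c => by
      rw [bond_pow hrel a1 a2 one_ne_zero, pow_one]
    have h10 : σ (n 1) = σ (n 0) := RingEquiv.ext fun c => by
      rw [bond_pow hrel b1 b2 one_ne_zero, pow_one]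
    refine tame_swap (by simp) p hrel (by decide +kernel) (Or.inl rfl) c1 c2 fun k => ⟨fun h => ?_, fun h => ?_⟩
    · rcases hf k h with rfl | rfl
      exacts [rfl, h32]
    · rcases ht k h with rfl | rfl
      exacts [h10.symm, rfl]

theorem tame_E6 {π : Equiv.Perm (Fin chevE6.rank)} {σ : Fin chevE6.rank → (F ≃+* F)}
    (hz : ∀ i j, i ≠ j → cA chevE6 i j = 0 → cA chevE6 (π i) (π j) = 0)
    (hrel : ∀ i j (c : F), c ≠ 0 → σ j c ^ cA chevE6 i j = σ i c ^ cA chevE6 (π i) (π j)) :
    Tame chevE6 F π σ := by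
  rcases covE6 π hz with rfl | rfl <;> exact tame_iso (by simp) connE6 (by decide +kernel) hrel

/-- the permutation of a list -/
theorem isoB_of_list {π : Equiv.Perm (Fin D.rank)} {L : List ℕ}
    (h : (List.ofFn fun i => (π i).val) = L)
    (hB : ((List.finRange D.rank).all fun i =>
      !(D.isLong (D.simple (L.getD i.val 0)) && !D.isLong (D.simple i)) &&
        (List.finRange D.rank).all fun j =>
          decide (cN D (L.getD i.val 0) (L.getD j.val 0) = cN D i j)) = true) : isoB D π = true := by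
  subst h
  simp only [List.all_eq_true, Bool.and_eq_true, decide_eq_true_eq] at hB
  simp only [isoB, List.all_eq_true, Bool.and_eq_true, decide_eq_true_eq]
  simpa [jumpB, List.getD_eq_getElem?_getD, cN, cA] using hB

theorem tame_D4 {π : Equiv.Perm (Fin chevD4.rank)} {σ : Fin chevD4.rank → (F ≃+* F)}
    (hz : ∀ i j, i ≠ j → cA chevD4 i j = 0 → cA chevD4 (π i) (π j) = 0)
    (hrel : ∀ i j (c : F), c ≠ 0 → σ j c ^ cA chevD4 i j = σ i c ^ cA chevD4 (π i) (π j)) :
    Tame chevD4 F π σ := by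
  have := perm_cases zD4 extD4 π hz
  simp only [List.mem_cons, List.not_mem_nil, or_false] at this
  rcases this with h | h | h | h | h | h <;>
    exact tame_iso (by simp) connD4 (isoB_of_list h (by decide +kernel)) hrel

theorem tame_of_mem (p : ℕ) [Fact p.Prime] [CharP F p] (hD : Seven D) {π : Equiv.Perm (Fin D.rank)} {σ : Fin D.rank → (F ≃+* F)}
    (hz : ∀ i j, i ≠ j → cA D i j = 0 → cA D (π i) (π j) = 0)
    (hrel : ∀ i j (c : F), c ≠ 0 → σ j c ^ cA D i j = σ i c ^ cA D (π i) (π j)) : Tame D F π σ := by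
  have hD' := hD
  simp only [List.mem_cons, List.not_mem_nil, or_false] at hD
  rcases hD with rfl | rfl | rfl | rfl | rfl | rfl | rfl
  · exact tame_G2 p hz hrel
  · exact tame_B2 p hz hrel
  · exact tame_D4 hz hrel
  · exact tame_F4 p hz hrel
  · exact tame_E6 hz hrel
  · have h := perm_cases zE7 extE7 π hz
    rw [List.mem_singleton] at h
    exact tame_iso hD' connE7 (isoB_of_list h (by decide +kernel)) hrel
  · have h := perm_cases zE8 extE8 π hz
    rw [List.mem_singleton] at h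
    exact tame_iso hD' connE8 (isoB_of_list h (by decide +kernel)) hrel

/-- Every automorphism is inner, diagonal, graph and field. -/
theorem decomposition (hD : Seven D) [Finite F] (θ : ↥(D.group F) ≃* ↥(D.group F)) :
    ∃ (x : ↥(D.group F)) (d g f : ↥(D.group F) ≃* ↥(D.group F)),
      D.IsDiagonalAut d ∧ D.IsGraphAut g ∧ D.IsFieldAut f ∧ ∀ y : ↥(D.group F), θ y = x * d (g (f y)) * x⁻¹ := by
  classical
  haveI := Fintype.ofFinite F
  obtain ⟨p, hp⟩ := CharP.exists F
  haveI := hp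
  obtain ⟨f, hpp, hF⟩ := FiniteField.card F p
  haveI := Fact.mk hpp
  obtain ⟨x, hU, hV⟩ := exists_normalise hD p f hF θ
  obtain ⟨π, σ, a, hform, hz, hrel⟩ := exists_form hD (normalised_of_map hU hV)
  obtain ⟨hsym, s, hs⟩ := tame_of_mem p hD hz hrel
  have hG := good_of_mem hD
  let b : ℕ → Fˣ := fun j => if h : j < D.rank then a (π.symm ⟨j, h⟩) else 1
  have hb : ∀ i, b (π i).val = a i := fun i => by
    simp only [b, dif_pos (π i).isLt, Fin.eta, Equiv.symm_apply_apply]
  refine decompose hG θ x⁻¹ π hsym b s fun y i t => ?_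
  obtain ⟨hp1, hn1⟩ := hform i y t
  have hval : (x⁻¹⁻¹ * θ y * x⁻¹ : ↥(D.group F)) = (θ.trans (MulAut.conj x)) y := by simp
  rw [hval, hb, ← hs]
  constructor
  · intro hy
    rw [hp1 (Units.ext (hy.trans (hG.val_xg _ _).symm)), hG.val_xg]
  · intro hy
    rw [hn1 (Units.ext (hy.trans (hG.val_xg _ _).symm)), hG.val_xg]

end Cfsg.Agent.AutDecomp
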