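import Cfsg.Agent.Chev54.Char
import Cfsg.Agent.ChevFixed.Field
import Cfsg.Agent.Lib.ChevCore.GoodAll
import Cfsg.Agent.Lib.ChevCore.Elements

/-!
Existence of the diagonal automorphism with given values at the fundamental roots and of the field
automorphism of a given automorphism of the field.
-/

set_option autoImplicit false

namespace Cfsg.Agent.AutDecomp

open Cfsg.Lie Cfsg.Agent.ChevCore

variable {D : ChevalleyDatum} {F : Type*} [Field F]

/-- The character with given values at the fundamental roots. -/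
noncomputable def charOf (D : ChevalleyDatum) (a : ℕ → Fˣ) (r : ℕ) : Fˣ :=
  ∏ j ∈ Finset.range D.rank, a j ^ coef D r j

theorem charOf_isRootCharacter (hD : Good D) (a : ℕ → Fˣ) : D.IsRootCharacter (charOf D a) := by
  refine ⟨fun r hr => ?_, fun r s k hr hs hk => ?_⟩
  · rw [charOf, charOf, ← Finset.prod_inv_distrib]
    exact Finset.prod_congr rfl fun j hj => by rw [hD.coef_neg hr (Finset.mem_range.1 hj), _root_.zpow_neg]
  · obtain ⟨e, he, hek⟩ : ∃ e, (D.chainEntry r s)[0]? = some e ∧ e.1 = k := by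
      simpa [ChevalleyDatum.chainRoot] using hk
    have hne : D.chainEntry r s ≠ [] := by intro h; simp [h] at he
    obtain ⟨-, -, -, hfacts⟩ := hD.chain_facts hr hs hne
    rw [charOf, charOf, charOf, ← Finset.prod_mul_distrib]
    refine Finset.prod_congr rfl fun j hj => ?_
    rw [← _root_.zpow_add]
    congr 1
    rw [← hek, (hfacts 0 e he).2 j (Finset.mem_range.1 hj)]
    simp

theorem charOf_simple (hD : Good D) (a : ℕ → Fˣ) {i : ℕ} (hi : i < D.rank) :
    charOf D a (D.simple i) = a i := by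
  rw [charOf, Finset.prod_eq_single i]
  · rw [hD.coef_simple hi hi, if_pos rfl, zpow_one]
  · intro j hj hji
    rw [hD.coef_simple hi (Finset.mem_range.1 hj), if_neg hji, zpow_zero]
  · exact fun h => absurd (Finset.mem_range.2 hi) h

/-- The diagonal element of a character. -/
noncomputable def diagGL (χ : ℕ → Fˣ) : GL D.Idx F where
  val := D.charDiag F χ
  inv := D.charDiag F fun r => (χ r)⁻¹
  val_inv := by
    rw [ChevalleyDatum.charDiag, ChevalleyDatum.charDiag, Matrix.diagonal_mul_diagonal,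
      ← Matrix.diagonal_one]
    congr 1; funext a; rcases a with i | s <;> simp
  inv_val := by
    rw [ChevalleyDatum.charDiag, ChevalleyDatum.charDiag, Matrix.diagonal_mul_diagonal,
      ← Matrix.diagonal_one]
    congr 1; funext a; rcases a with i | s <;> simp

theorem diag_conj_mem (hD : Good D) {χ : ℕ → Fˣ} (hχ : D.IsRootCharacter χ) {g : GL D.Idx F}
    (hg : g ∈ D.group F) : diagGL χ * g * (diagGL χ)⁻¹ ∈ D.group F := by
  induction hg using Subgroup.closure_induction with
  | mem y hy =>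
    obtain ⟨r, t, hy⟩ := hy
    refine Subgroup.subset_closure ⟨r, (χ r.val : F) * t, ?_⟩
    rw [Units.val_mul, Units.val_mul, hy]
    have := Chev54.charDiag_conj hD hχ r.isLt t
    rwa [ChevalleyDatum.x, ChevalleyDatum.x, dif_pos r.isLt, dif_pos r.isLt] at this
  | one => simp
  | mul a b _ _ ha hb =>
    have := mul_mem ha hb
    rwa [show diagGL χ * a * (diagGL χ)⁻¹ * (diagGL χ * b * (diagGL χ)⁻¹) =
      diagGL χ * (a * b) * (diagGL χ)⁻¹ by group] at this
  | inv a _ ha =>
    have := inv_mem ha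
    rwa [show (diagGL χ * a * (diagGL χ)⁻¹)⁻¹ = diagGL χ * a⁻¹ * (diagGL χ)⁻¹ by group] at this

/-- The diagonal automorphism with values `a` at the fundamental roots. -/
theorem exists_diagonal (hD : Good D) (a : ℕ → Fˣ) :
    ∃ d : ↥(D.group F) ≃* ↥(D.group F), D.IsDiagonalAut d ∧
      ∀ (g : ↥(D.group F)) (r : ℕ) (t : F), r < D.nroots →
        ((g : GL D.Idx F) : Matrix D.Idx D.Idx F) = D.x F r t →
          ((d g : GL D.Idx F) : Matrix D.Idx D.Idx F) = D.x F r ((charOf D a r : F) * t) := by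
  have hχ := charOf_isRootCharacter hD a (F := F)
  have hi : ∀ χ : ℕ → Fˣ, diagGL (D := D) (fun r => (χ r)⁻¹) = (diagGL χ)⁻¹ := fun χ =>
    Units.ext rfl
  have hχ' : D.IsRootCharacter (fun r => (charOf D a r)⁻¹) :=
    ⟨fun r hr => by show (charOf D a (D.neg r))⁻¹ = _; rw [hχ.1 r hr], fun r s k hr hs hk => by
      show (charOf D a k)⁻¹ = _; rw [hχ.2 r s k hr hs hk, mul_inv]⟩
  let d : ↥(D.group F) ≃* ↥(D.group F) :=
    { toFun := fun g => ⟨diagGL (D := D) (charOf D a) * (g : GL D.Idx F) * (diagGL (charOf D a))⁻¹, diag_conj_mem hD hχ g.2⟩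
      invFun := fun g => ⟨(diagGL (D := D) (charOf D a))⁻¹ * (g : GL D.Idx F) * diagGL (charOf D a), by
        have := diag_conj_mem hD hχ' g.2
        rwa [hi, inv_inv] at this⟩
      left_inv := fun g => Subtype.ext (by group)
      right_inv := fun g => Subtype.ext (by group)
      map_mul' := fun g h => Subtype.ext (by simp [mul_assoc]) }
  refine ⟨d, ⟨charOf D a, hχ, fun g => rfl⟩, fun g r t hr hg => ?_⟩
  show ((diagGL (charOf D a) * (g : GL D.Idx F) * (diagGL (charOf D a))⁻¹ : GL D.Idx F) :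
    Matrix D.Idx D.Idx F) = _
  rw [Units.val_mul, Units.val_mul, hg]
  exact Chev54.charDiag_conj hD hχ hr t

/-- The field automorphism of `σ`. -/
theorem exists_field (σ : F ≃+* F) :
    ∃ f : ↥(D.group F) ≃* ↥(D.group F), D.IsFieldAut f ∧
      ∀ (g : ↥(D.group F)) (r : ℕ) (t : F),
        ((g : GL D.Idx F) : Matrix D.Idx D.Idx F) = D.x F r t →
          ((f g : GL D.Idx F) : Matrix D.Idx D.Idx F) = D.x F r (σ t) := by
  let h : ∀ τ : F ≃+* F, ↥(D.group F) →* ↥(D.group F) := fun τ => ChevFixed.mapGroup τ.toRingHom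
  have hinv : ∀ (τ : F ≃+* F) g, h τ.symm (h τ g) = g := fun τ g =>
    ChevGroup.Model.mat_inj (by
      rw [ChevFixed.mat_mapGroup]
      show (Matrix.map ((g : GL D.Idx F) : Matrix D.Idx D.Idx F) τ.toRingHom).map τ.symm.toRingHom = _
      ext a b
      exact τ.symm_apply_apply _)
  let f : ↥(D.group F) ≃* ↥(D.group F) :=
    { toFun := h σ, invFun := h σ.symm, left_inv := hinv σ, right_inv := hinv σ.symm,
      map_mul' := map_mul _ }
  have key : ∀ (g : ↥(D.group F)) (r : ℕ) (t : F),
      ((g : GL D.Idx F) : Matrix D.Idx D.Idx F) = D.x F r t →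
        ((f g : GL D.Idx F) : Matrix D.Idx D.Idx F) = D.x F r (σ t) := by
    intro g r t hg
    show ((g : GL D.Idx F) : Matrix D.Idx D.Idx F).map σ.toRingHom = _
    rw [hg, ChevFixed.x_map]
    rfl
  exact ⟨f, ⟨σ, fun g r t _ => key g r t⟩, key⟩

end Cfsg.Agent.AutDecomp
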